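import Cfsg.Agent.Lib.InvChar.SuzT.Seven
import Cfsg.Agent.Lib.InvChar.HallJankoKlein

/-!
# Elements of order five of the component of a group of Suzuki type

Every element of order five of the component `L` of the centraliser of a second-class involution is
conjugate to its square.
-/

set_option autoImplicit false

namespace CfsgLib.InvChar.SuzFive

open Subgroup CfsgLib.Invol SuzT

universe u

variable {G : Type u} [Group G]

/-- The powers of an element of order five. -/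
theorem five_cases {a b : G} (ha : orderOf a = 5) (hb : b ∈ zpowers a) :
    b = 1 ∨ b = a ∨ b = a⁻¹ ∨ b = a * a ∨ b = (a * a)⁻¹ := by
  obtain ⟨i, rfl⟩ := mem_zpowers_iff.1 hb
  rw [← zpow_mod_orderOf a i, ha]
  have h5 : a ^ 5 = 1 := by rw [← ha, pow_orderOf_eq_one]
  have h1 := Int.emod_nonneg i (show ((5 : ℕ) : ℤ) ≠ 0 by norm_num)
  have h2 := Int.emod_lt_of_pos i (show (0 : ℤ) < ((5 : ℕ) : ℤ) by norm_num)
  generalize i % ((5 : ℕ) : ℤ) = m at *
  have h4 : a ^ 4 = a⁻¹ := eq_inv_of_mul_eq_one_left (by rw [← pow_succ, h5])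
  have h3 : a ^ 3 = (a * a)⁻¹ := eq_inv_of_mul_eq_one_left (by rw [← pow_two, ← pow_add, h5])
  interval_cases m
  · exact Or.inl (zpow_zero a)
  · exact Or.inr (Or.inl (zpow_one a))
  · exact Or.inr (Or.inr (Or.inr (Or.inl (zpow_two a))))
  · exact Or.inr (Or.inr (Or.inr (Or.inr (by rw [show (3 : ℤ) = ((3 : ℕ) : ℤ) from rfl, zpow_natCast]; exact h3))))
  · exact Or.inr (Or.inr (Or.inl (by rw [show (4 : ℤ) = ((4 : ℕ) : ℤ) from rfl, zpow_natCast]; exact h4)))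

/-- A normalising element centralises, inverts, or a power of it squares. -/
theorem conj_cases {g a : G} (ha : orderOf a = 5) (h : g * a * g⁻¹ ∈ zpowers a) :
    g * a * g⁻¹ = a ∨ g * a * g⁻¹ = a⁻¹ ∨ ∃ n : G, n * a * n⁻¹ = a * a := by
  have h5 : a ^ 5 = 1 := by rw [← ha, pow_orderOf_eq_one]
  rcases five_cases ha h with e | e | e | e | e
  · rw [conj_eq_one_iff] at e
    rw [e, orderOf_one] at ha
    norm_num at ha
  · exact Or.inl e
  · exact Or.inr (Or.inl e)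
  · exact Or.inr (Or.inr ⟨g, e⟩)
  · refine Or.inr (Or.inr ⟨g * g * g, ?_⟩)
    have e2 : g * (g * a * g⁻¹) * g⁻¹ = a⁻¹ := by
      rw [e, show g * (a * a)⁻¹ * g⁻¹ = (g * a * g⁻¹ * (g * a * g⁻¹))⁻¹ by group, e,
        mul_inv_rev, inv_inv]
      apply eq_inv_of_mul_eq_one_left
      calc a * a * (a * a) * a = a ^ 5 := by simp only [pow_succ, pow_zero, one_mul, mul_assoc]
        _ = 1 := h5
    rw [show g * g * g * a * (g * g * g)⁻¹ = g * (g * (g * a * g⁻¹) * g⁻¹) * g⁻¹ by group, e2,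
      show g * a⁻¹ * g⁻¹ = (g * a * g⁻¹)⁻¹ by group, e, inv_inv]

variable [Finite G] {z : G} (F : TFrame z)
include F

theorem exists_five : ∃ x ∈ F.L, orderOf x = 5 := by
  haveI : Fact (Nat.Prime 5) := ⟨by norm_num⟩
  obtain ⟨y, hy⟩ := exists_prime_orderOf_dvd_card' (G := ↥F.L) 5 (by rw [F.cardL]; norm_num)
  exact ⟨y, y.2, by rw [orderOf_coe]; exact hy⟩

/-- An element of `C(t)` outside `C(E)` normalising `⟨x⟩`. -/
theorem exists_outer_normalizing {x : G} (hx : x ∈ F.L) (hx5 : orderOf x = 5) :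
    ∃ g, g * F.t = F.t * g ∧ g ∉ centralizer (F.E : Set G) ∧ g * x * g⁻¹ ∈ zpowers x := by
  haveI : Fact (Nat.Prime 5) := ⟨by norm_num⟩
  set e₁ := F.d * F.t * F.d⁻¹ with he₁
  have he₁E : e₁ ∈ F.E := F.d_norm _ F.t_mem
  have he₁1 : e₁ ≠ 1 := fun h => F.t_ne (conj_eq_one_iff.1 h)
  have hσt : F.σ * F.t * F.σ⁻¹ = F.t := by rw [F.σ_mem, mul_inv_cancel_right]
  have hσE : F.σ ∉ centralizer (F.E : Set G) := fun h => F.t_ne (by
    have h1 := F.σ_move _ he₁E he₁1 F.d_move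
    rw [← mem_centralizer_iff.1 h _ he₁E, mul_inv_cancel_right] at h1
    exact mul_eq_left.1 h1.symm)
  have hσ : ∀ e ∈ F.E, F.σ * e * F.σ⁻¹ ∈ F.E := by
    intro e he
    by_cases h1 : e = 1
    · rw [h1]; simp
    by_cases h2 : e = F.t
    · rw [h2, hσt]; exact F.t_mem
    rw [F.σ_move e he h1 h2]; exact mul_mem he F.t_mem
  have hσy : F.σ * x * F.σ⁻¹ ∈ centralizer (F.E : Set G) := by
    refine mem_centralizer_iff.2 fun e he => ?_
    obtain ⟨e', he', rfl⟩ : ∃ e' ∈ F.E, F.σ * e' * F.σ⁻¹ = e := by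
      obtain ⟨⟨e', he'⟩, h⟩ := (Finite.injective_iff_surjective.1 (fun a b h =>
        Subtype.ext (mul_left_cancel (mul_right_cancel (congrArg Subtype.val h :)))) :
        Function.Surjective fun a : ↥F.E => (⟨F.σ * a * F.σ⁻¹, hσ _ a.2⟩ : ↥F.E)) ⟨e, he⟩
      exact ⟨e', he', congrArg Subtype.val h⟩
    calc F.σ * e' * F.σ⁻¹ * (F.σ * x * F.σ⁻¹) = F.σ * (e' * x) * F.σ⁻¹ := by group
      _ = F.σ * (x * e') * F.σ⁻¹ := by rw [F.comm e' he' x hx]
      _ = _ := by group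
  obtain ⟨e, he, l, hl, hel⟩ := (F.cent_E _).1 hσy
  have h5 : (F.σ * x * F.σ⁻¹) ^ 5 = 1 := by
    rw [conj_pow, show x ^ 5 = 1 by rw [← hx5, pow_orderOf_eq_one]]; group
  rw [hel, (show Commute e l from F.comm e he l hl).mul_pow,
    show e ^ 5 = e by rw [show 5 = 2 * 2 + 1 from rfl, pow_succ, pow_mul, pow_two e, F.sqE e he, one_pow,
      one_mul]] at h5
  have he1 : e = 1 := F.disj e he (by
    rw [eq_inv_of_mul_eq_one_left h5]; exact inv_mem (pow_mem hl 5))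
  rw [he1, one_mul] at hel
  have hl5 : orderOf l = 5 := by rw [← hel, orderOf_conj_eq]; exact hx5
  have hsyl : ∀ v (hv : v ∈ F.L), orderOf v = 5 → ∃ P : Sylow 5 ↥F.L, (P : Subgroup ↥F.L) = zpowers ⟨v, hv⟩ := by
    intro v hv hv5
    have hc : Nat.card ↥(zpowers (⟨v, hv⟩ : ↥F.L)) = 5 := by rw [Nat.card_zpowers, ← orderOf_coe]; exact hv5
    refine ⟨(IsPGroup.of_card (n := 1) (hc.trans (pow_one 5).symm)).toSylow ?_, rfl⟩
    intro h
    have h' : 5 ∣ (zpowers (⟨v, hv⟩ : ↥F.L)).index := h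
    have h2 := (zpowers (⟨v, hv⟩ : ↥F.L)).card_mul_index
    rw [hc, F.cardL] at h2
    omega
  obtain ⟨P, hP⟩ := hsyl x hx hx5
  obtain ⟨P', hP'⟩ := hsyl l hl hl5
  obtain ⟨h, hh⟩ := MulAction.exists_smul_eq ↥F.L P P'
  have hmem : (⟨l, hl⟩ : ↥F.L) ∈ (P : Subgroup ↥F.L).map (MulAut.conj h).toMonoidHom := by
    have h1 : (⟨l, hl⟩ : ↥F.L) ∈ (P' : Subgroup ↥F.L) := hP'.symm ▸ mem_zpowers _
    rw [← hh, Sylow.coe_subgroup_smul] at h1
    obtain ⟨v, hv, hv'⟩ := h1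
    exact ⟨v, hv, hv'⟩
  obtain ⟨v, hv, hv'⟩ := hmem
  rw [hP] at hv
  have hv'' : (h : G) * v * (h : G)⁻¹ = l := congrArg Subtype.val hv'
  refine ⟨(h : G)⁻¹ * F.σ, ?_, ?_, ?_⟩
  · have h1 : (h : G)⁻¹ * F.t = F.t * (h : G)⁻¹ := ((show Commute F.t (h : G) from F.comm _ F.t_mem _ h.2).inv_right).eq.symm
    rw [mul_assoc, F.σ_mem, ← mul_assoc, h1, mul_assoc]
  · intro hc
    refine hσE ?_
    have := mul_mem (F.L_le h.2) hc
    rwa [mul_inv_cancel_left] at this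
  · rw [show (h : G)⁻¹ * F.σ * x * ((h : G)⁻¹ * F.σ)⁻¹ = (h : G)⁻¹ * (F.σ * x * F.σ⁻¹) * h by group, hel, ← hv'',
      show (h : G)⁻¹ * ((h : G) * v * (h : G)⁻¹) * h = v by group]
    obtain ⟨i, hi⟩ := mem_zpowers_iff.1 hv
    exact mem_zpowers_iff.2 ⟨i, congrArg Subtype.val hi⟩

/-- An element of order five of `L` is normalised in `L` by more than itself. -/
theorem exists_inner_normalizing {x : G} (hx : x ∈ F.L) (hx5 : orderOf x = 5) :
    ∃ l ∈ F.L, l * x * l⁻¹ ∈ zpowers x ∧ l * x ≠ x * l := by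
  haveI : Fact (Nat.Prime 5) := ⟨by norm_num⟩
  set x' : ↥F.L := ⟨x, hx⟩ with hx'
  have hc : Nat.card ↥(zpowers x') = 5 := by rw [Nat.card_zpowers, ← orderOf_coe]; exact hx5
  obtain ⟨P, hP⟩ : ∃ P : Sylow 5 ↥F.L, (P : Subgroup ↥F.L) = zpowers x' := by
    refine ⟨(IsPGroup.of_card (n := 1) (hc.trans (pow_one 5).symm)).toSylow ?_, rfl⟩
    intro h
    have h' : 5 ∣ (zpowers x').index := h
    have h2 := (zpowers x').card_mul_index
    rw [hc, F.cardL] at h2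
    omega
  by_contra hcon
  push Not at hcon
  have hle : normalizer ((P : Subgroup ↥F.L) : Set ↥F.L) ≤ zpowers x' := by
    intro l hl
    rw [hP] at hl
    have h1 := (mem_normalizer_iff.1 hl x').1 (mem_zpowers x')
    obtain ⟨i, hi⟩ := mem_zpowers_iff.1 h1
    have h2 : (l : G) * x * (l : G)⁻¹ ∈ zpowers x := mem_zpowers_iff.2 ⟨i, congrArg Subtype.val hi⟩
    obtain ⟨j, hj⟩ := mem_zpowers_iff.1 (F.L_self x hx (Or.inl hx5) l l.2 (hcon l l.2 h2))
    exact mem_zpowers_iff.2 ⟨j, Subtype.ext (by rw [SubgroupClass.coe_zpow]; exact hj)⟩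
  have hge : zpowers x' ≤ normalizer ((P : Subgroup ↥F.L) : Set ↥F.L) := by rw [hP]; exact le_normalizer
  have hN : Nat.card ↥(normalizer ((P : Subgroup ↥F.L) : Set ↥F.L)) = 5 := by
    rw [le_antisymm hle hge, hc]
  have h1 : Nat.card (Sylow 5 ↥F.L) = (normalizer ((P : Subgroup ↥F.L) : Set ↥F.L)).index :=
    P.card_eq_index_normalizer
  have h2 := (normalizer ((P : Subgroup ↥F.L) : Set ↥F.L)).card_mul_index
  rw [hN, F.cardL] at h2
  have h3 := card_sylow_modEq_one 5 ↥F.L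
  rw [show Nat.card (Sylow 5 ↥F.L) = 4032 by omega] at h3
  unfold Nat.ModEq at h3
  omega

/-- An element of order five of `L` is conjugate to its square. -/
theorem L_full {x : G} (hx : x ∈ F.L) (hx5 : orderOf x = 5) : ∃ n : G, n * x * n⁻¹ = x * x := by
  obtain ⟨l, hlL, hl, hlne⟩ := exists_inner_normalizing F hx hx5
  rcases conj_cases hx5 hl with e | e | e
  · exact absurd (mul_inv_eq_iff_eq_mul.1 e) hlne
  swap
  · exact e
  obtain ⟨g, hgt, hgE, hg⟩ := exists_outer_normalizing F hx hx5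
  rcases conj_cases hx5 hg with e' | e' | e'
  · exact absurd (mul_inv_eq_iff_eq_mul.1 e') (F.outer g hgt hgE x hx (Or.inl hx5))
  swap
  · exact e'
  exfalso
  refine F.outer (l * g) ?_ ?_ x hx (Or.inl hx5) ?_
  · rw [mul_assoc, hgt, ← mul_assoc, ← F.comm _ F.t_mem l hlL, mul_assoc]
  · intro hc
    have := mul_mem (inv_mem (F.L_le hlL)) hc
    rw [inv_mul_cancel_left] at this
    exact hgE this
  · refine mul_inv_eq_iff_eq_mul.1 ?_
    rw [show l * g * x * (l * g)⁻¹ = l * (g * x * g⁻¹) * l⁻¹ by group, e',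
      show l * x⁻¹ * l⁻¹ = (l * x * l⁻¹)⁻¹ by group, e, inv_inv]

end CfsgLib.InvChar.SuzFive
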