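import Cfsg.Agent.Lib.InvChar.SuzFive.Data
import Mathlib.Data.ZMod.Basic
import Mathlib.Data.Fintype.Perm

/-!
# Coordinates on a Sylow five-subgroup

The action of the normaliser on `P = ⟨x⟩ × ⟨w⟩` by `2 × 2` matrices over the field with five elements.
-/

set_option autoImplicit false

namespace CfsgLib.InvChar.SuzFive

open Subgroup

/-- Vectors. -/
abbrev V5 : Type := ZMod 5 × ZMod 5

/-- Matrices, as pairs of columns. -/
abbrev M2 : Type := V5 × V5

/-- The action of a matrix. -/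
def app (m : M2) (v : V5) : V5 := (v.1 * m.1.1 + v.2 * m.2.1, v.1 * m.1.2 + v.2 * m.2.2)

/-- The product of matrices. -/
def mmul (m n : M2) : M2 := (app m n.1, app m n.2)

/-- The identity matrix. -/
def one5 : M2 := ((1, 0), (0, 1))

/-- The matrix of the inverting element. -/
def R5 : M2 := ((1, 0), (0, 4))

/-- The matrix of order three. -/
def F5 : M2 := ((2, 1), (3, 2))

/-- Scalars. -/
def sc (k : ZMod 5) : M2 := ((k, 0), (0, k))

/-- The 24 matrices. -/
def Tab (p : Multiplicative (ZMod 4) × Equiv.Perm (Fin 3)) : M2 :=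
  mmul (sc ((2 : ZMod 5) ^ (Multiplicative.toAdd p.1).val))
    (mmul (![one5, F5, mmul F5 F5] (p.2 0)) (if p.2 1 = p.2 0 + 1 then one5 else R5))

theorem app_one (v : V5) : app one5 v = v := by simp [app, one5]

theorem mmul_one (m : M2) : mmul m one5 = m := by simp [mmul, app, one5]

theorem one_mmul (m : M2) : mmul one5 m = m := by simp [mmul, app_one]

theorem app_mmul (m n : M2) (v : V5) : app (mmul m n) v = app m (app n v) := by
  simp only [app, mmul]
  refine Prod.ext ?_ ?_ <;> ring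

theorem tab_mul : ∀ p q, Tab (p * q) = mmul (Tab p) (Tab q) := by decide +kernel

theorem tab_inj : ∀ p q, Tab p = Tab q → p = q := by decide +kernel

theorem tab_first : ∀ p, (Tab p).1.1 ≠ 0 := by decide +kernel

theorem tab_cover : ∀ v : V5, v ≠ 0 → ∃ p, (Tab p).1 = v ∨ (Tab p).2 = v := by decide +kernel

theorem diag_of_comm : ∀ c d : ZMod 5, mmul ((2, 0), (c, d)) R5 = mmul R5 ((2, 0), (c, d)) ∨
    mmul ((2, 0), (c, d)) R5 = mmul (mmul R5 ((2, 0), (c, d))) R5 → c = 0 ∨ d = 0 := by decide +kernel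

theorem diag_four : ∀ d : ZMod 5, d ≠ 0 → mmul (mmul ((2, 0), (0, d)) ((2, 0), (0, d)))
    (mmul ((2, 0), (0, d)) ((2, 0), (0, d))) = one5 := by decide +kernel

/-- The three lines of the orbit of the first coordinate line. -/
def InO (f : M2) (v : V5) : Prop :=
  ∃ k : ZMod 5, v = (k, 0) ∨ v = (k * f.1.1, k * f.1.2) ∨ v = (k * (mmul f f).1.1, k * (mmul f f).1.2)

instance (f : M2) (v : V5) : Decidable (InO f v) := by unfold InO; infer_instance

set_option synthInstance.maxSize 4000 in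
set_option synthInstance.maxHeartbeats 400000 in
theorem shape : ∀ f : M2, ∀ d : ZMod 5, d ≠ 0 → mmul f (mmul f f) = one5 → f.1 ≠ (1, 0) →
    InO f (app R5 f.1) → InO f (app R5 (mmul f f).1) → InO f (app ((2, 0), (0, d)) f.1) →
    (d = 2 ∨ d = 3) ∧ f.1.1 = 2 ∧ f.2.2 = 2 ∧ f.1.2 ≠ 0 ∧ f.2.1 * f.1.2 = 3 := by
  decide +kernel

universe u

variable {G : Type u} [Group G]

/-- Coordinates. -/
def pt (x w : G) (v : V5) : G := x ^ v.1.val * w ^ v.2.val

/-- The inverse of the coordinates. -/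
noncomputable def co (x w : G) : G → V5 := Function.invFun (pt x w)

/-- The matrix of a normalising element. -/
noncomputable def theta (x w n : G) : M2 := (co x w (n * x * n⁻¹), co x w (n * w * n⁻¹))

theorem val_add_pow {a : G} (ha : a ^ 5 = 1) (i j : ZMod 5) : a ^ (i + j).val = a ^ i.val * a ^ j.val := by
  rw [← pow_add, ZMod.val_add, ← pow_mod_orderOf a (i.val + j.val), ← pow_mod_orderOf a ((i.val + j.val) % 5),
    Nat.mod_mod_of_dvd _ (orderOf_dvd_of_pow_eq_one ha)]

theorem val_mul_pow {a : G} (ha : a ^ 5 = 1) (i j : ZMod 5) : a ^ (i * j).val = (a ^ i.val) ^ j.val := by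
  rw [← pow_mul, ZMod.val_mul, ← pow_mod_orderOf a (i.val * j.val), ← pow_mod_orderOf a ((i.val * j.val) % 5),
    Nat.mod_mod_of_dvd _ (orderOf_dvd_of_pow_eq_one ha)]

theorem val_one5 : (1 : ZMod 5).val = 1 := rfl

namespace Data

variable {P : Subgroup G} {x w r : G} (D : Data P x w r)
include D

theorem xw : Commute x w := D.comm x D.xP w D.wP

theorem pt_mem (v : V5) : pt x w v ∈ P := mul_mem (pow_mem D.xP _) (pow_mem D.wP _)

theorem pt_add (a b : V5) : pt x w (a + b) = pt x w a * pt x w b := by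
  simp only [pt, Prod.fst_add, Prod.snd_add, val_add_pow D.hx, val_add_pow D.hw]
  exact Commute.mul_mul_mul_comm (D.xw.pow_pow _ _) _ _

theorem pt_pow (k : ZMod 5) (v : V5) : pt x w (k * v.1, k * v.2) = (pt x w v) ^ k.val := by
  simp only [pt]
  rw [(D.xw.pow_pow _ _).mul_pow, mul_comm k, mul_comm k, val_mul_pow D.hx, val_mul_pow D.hw]

theorem pt_zero : pt x w 0 = 1 := by simp [pt]

theorem pt_e1 : pt x w (1, 0) = x := by simp [pt, val_one5]

theorem pt_e2 : pt x w (0, 1) = w := by simp [pt, val_one5]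

theorem orderOf_x : orderOf x = 5 :=
  haveI : Fact (Nat.Prime 5) := ⟨by norm_num⟩
  orderOf_eq_prime D.hx D.hx1

theorem pt_inj : Function.Injective (pt x w) := by
  intro a b e
  have h : pt x w (a - b) = 1 := by
    have h1 := D.pt_add (a - b) b
    rw [sub_add_cancel, e] at h1
    exact mul_eq_right.1 h1.symm
  refine sub_eq_zero.1 ?_
  generalize a - b = d at h ⊢
  have h2 : w ^ d.2.val ∈ zpowers x := by
    rw [show w ^ d.2.val = (x ^ d.1.val)⁻¹ from eq_inv_of_mul_eq_one_right h]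
    exact inv_mem (pow_mem (mem_zpowers x) _)
  have hd2 : d.2 = 0 := by
    by_contra hne
    refine D.hwx ?_
    haveI : Fact (Nat.Prime 5) := ⟨by norm_num⟩
    have := pow_mem h2 (d.2)⁻¹.val
    rwa [← val_mul_pow D.hw, mul_inv_cancel₀ hne, val_one5, pow_one] at this
  have hd1 : d.1 = 0 := by
    simp only [pt, hd2, ZMod.val_zero, pow_zero, mul_one] at h
    have h3 := orderOf_dvd_of_pow_eq_one h
    rw [D.orderOf_x] at h3
    exact (ZMod.val_eq_zero _).1 (Nat.eq_zero_of_dvd_of_lt h3 (ZMod.val_lt _))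
  exact Prod.ext hd1 hd2

theorem pt_surj {a : G} (ha : a ∈ P) : ∃ v, pt x w v = a := by
  haveI : Finite ↥P := Nat.finite_of_card_ne_zero (by rw [D.card]; norm_num)
  obtain ⟨v, hv⟩ := (((Nat.bijective_iff_injective_and_card
    (fun v => (⟨pt x w v, D.pt_mem v⟩ : ↥P))).2 ⟨fun a b e => D.pt_inj (congrArg Subtype.val e), by
      rw [D.card, Nat.card_prod, Nat.card_zmod]⟩)).2 ⟨a, ha⟩
  exact ⟨v, congrArg Subtype.val hv⟩

theorem co_pt (v : V5) : co x w (pt x w v) = v := Function.leftInverse_invFun D.pt_inj v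

theorem pt_co {a : G} (ha : a ∈ P) : pt x w (co x w a) = a := Function.invFun_eq (D.pt_surj ha)

variable {n m : G} (hn : n ∈ normalizer (P : Set G))
include hn

theorem conj_mem {a : G} (ha : a ∈ P) : n * a * n⁻¹ ∈ P := (mem_normalizer_iff.1 hn a).1 ha

theorem pt_theta1 : pt x w (theta x w n).1 = n * x * n⁻¹ := D.pt_co (D.conj_mem hn D.xP)

theorem pt_theta2 : pt x w (theta x w n).2 = n * w * n⁻¹ := D.pt_co (D.conj_mem hn D.wP)

theorem conj_pt (v : V5) : n * pt x w v * n⁻¹ = pt x w (app (theta x w n) v) := by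
  have e : app (theta x w n) v = (v.1 * (theta x w n).1.1, v.1 * (theta x w n).1.2) +
      (v.2 * (theta x w n).2.1, v.2 * (theta x w n).2.2) := rfl
  rw [e, D.pt_add, D.pt_pow, D.pt_pow, D.pt_theta1 hn, D.pt_theta2 hn, conj_pow, conj_pow, pt]
  group

theorem theta_mul (hm : m ∈ normalizer (P : Set G)) :
    theta x w (n * m) = mmul (theta x w n) (theta x w m) := by
  refine Prod.ext ?_ ?_
  · show co x w (n * m * x * (n * m)⁻¹) = app (theta x w n) (theta x w m).1
    rw [show n * m * x * (n * m)⁻¹ = n * (m * x * m⁻¹) * n⁻¹ by group, ← D.pt_theta1 hm, D.conj_pt hn,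
      D.co_pt]
  · show co x w (n * m * w * (n * m)⁻¹) = app (theta x w n) (theta x w m).2
    rw [show n * m * w * (n * m)⁻¹ = n * (m * w * m⁻¹) * n⁻¹ by group, ← D.pt_theta2 hm, D.conj_pt hn,
      D.co_pt]

theorem mem_of_theta (h : theta x w n = one5) : n ∈ P := by
  refine D.cent n (mul_inv_eq_iff_eq_mul.1 ?_) (mul_inv_eq_iff_eq_mul.1 ?_)
  · rw [← D.pt_theta1 hn, h]; exact D.pt_e1
  · rw [← D.pt_theta2 hn, h]; exact D.pt_e2

omit hn

theorem theta_eq {n : G} {a b : V5} (ha : n * x * n⁻¹ = pt x w a) (hb : n * w * n⁻¹ = pt x w b) :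
    theta x w n = (a, b) := by
  rw [theta, ha, hb, D.co_pt, D.co_pt]

theorem theta_of_mem {n : G} (hn : n ∈ P) : theta x w n = one5 := by
  refine D.theta_eq ?_ ?_
  · rw [D.comm n hn x D.xP, mul_inv_cancel_right, D.pt_e1]
  · rw [D.comm n hn w D.wP, mul_inv_cancel_right, D.pt_e2]

theorem theta_one : theta x w (1 : G) = one5 := D.theta_of_mem (one_mem P)

theorem theta_r : theta x w r = R5 := by
  refine D.theta_eq (by rw [D.rx, D.pt_e1]) ?_
  rw [D.rw', pt]
  simp only [ZMod.val_zero, pow_zero, one_mul]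
  refine inv_eq_of_mul_eq_one_right ?_
  rw [show ((4 : ZMod 5)).val = 4 from rfl, ← pow_succ', D.hw]

end Data

end CfsgLib.InvChar.SuzFive
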