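import Cfsg.Agent.Lib.InvChar.SuzFive.Base

/-!
# A Sylow five-subgroup and its normaliser: the starting data

A Sylow 5-subgroup `P` of order 25 through an element `x` of order five of the component is elementary
abelian and self-centralising, and the centraliser of `x` in its normaliser is `P⟨r⟩` with `r` inverting a
complement `⟨w⟩` of `⟨x⟩`.
-/

set_option autoImplicit false

namespace CfsgLib.InvChar.SuzFive

open Subgroup CfsgLib.Invol SuzT

universe u

variable {G : Type u} [Group G]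

/-- What is known at the start about a Sylow five-subgroup. -/
structure Data (P : Subgroup G) (x w r : G) : Prop where
  card : Nat.card ↥P = 25
  comm : ∀ a ∈ P, ∀ b ∈ P, a * b = b * a
  xP : x ∈ P
  wP : w ∈ P
  hx : x ^ 5 = 1
  hw : w ^ 5 = 1
  hx1 : x ≠ 1
  hwx : w ∉ zpowers x
  rN : r ∈ normalizer (P : Set G)
  rx : r * x * r⁻¹ = x
  rw' : r * w * r⁻¹ = w⁻¹
  cent : ∀ g, g * x = x * g → g * w = w * g → g ∈ P
  stab : ∀ g ∈ normalizer (P : Set G), g * x = x * g → g ∈ P ∨ r⁻¹ * g ∈ P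
  full : ∃ h ∈ normalizer (P : Set G), h * x * h⁻¹ = x * x

variable [Finite G] {z : G}

theorem exists_data (F : TFrame z) (P : Sylow 5 G) (h25 : Nat.card ↥(P : Subgroup G) = 25) {x : G}
    (hx : x ∈ F.L) (hx5 : orderOf x = 5) (hxP : x ∈ (P : Subgroup G)) :
    ∃ w r, Data (P : Subgroup G) x w r := by
  classical
  haveI : Fact (Nat.Prime 5) := ⟨by norm_num⟩
  haveI hPc : IsMulCommutative ↥(P : Subgroup G) :=
    IsPGroup.isMulCommutative_of_card_eq_prime_sq (p := 5) (h25.trans (by norm_num))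
  have hPcomm : ∀ a ∈ (P : Subgroup G), ∀ b ∈ (P : Subgroup G), a * b = b * a := fun a ha b hb =>
    congrArg Subtype.val (hPc.is_comm.comm (⟨a, ha⟩ : ↥(P : Subgroup G)) ⟨b, hb⟩)
  set M := centralizer ({x} : Set G) with hM
  have hxM : x ∈ M := mem_centralizer_singleton_iff.2 rfl
  have hEM : F.E ≤ M := fun e he => mem_centralizer_singleton_iff.2 (F.comm e he x hx)
  have hdM : F.d ∈ M := mem_centralizer_singleton_iff.2 (F.d_comm x hx)
  have hPM : (P : Subgroup G) ≤ M := fun a ha => mem_centralizer_singleton_iff.2 (hPcomm a ha x hxP)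
  have hcomm : ∀ a ∈ zpowers x, ∀ g ∈ M, g * a = a * g := by
    intro a ha g hg
    obtain ⟨i, rfl⟩ := mem_zpowers_iff.1 ha
    exact ((show Commute g x from mem_centralizer_singleton_iff.1 hg).zpow_right i).eq
  have hYle : zpowers x ≤ M := zpowers_le.2 hxM
  haveI hYn : ((zpowers x).subgroupOf M).Normal := ⟨fun a ha g => mem_subgroupOf.2 (by
    show (g : G) * a * (g : G)⁻¹ ∈ zpowers x
    rw [hcomm _ (mem_subgroupOf.1 ha) _ g.2, mul_inv_cancel_right]; exact mem_subgroupOf.1 ha)⟩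
  let π := QuotientGroup.mk' ((zpowers x).subgroupOf M)
  have hπ : ∀ a b : ↥M, π a = π b → ∃ k ∈ zpowers x, (b : G) = a * k := fun a b e =>
    ⟨(a : G)⁻¹ * b, mem_subgroupOf.1 (QuotientGroup.eq.1 e), (mul_inv_cancel_left _ _).symm⟩
  have hπ1 : ∀ a : ↥M, π a = 1 → (a : G) ∈ zpowers x := fun a e =>
    mem_subgroupOf.1 ((QuotientGroup.eq_one_iff a).1 e)
  -- the image of the four group
  set W := (F.E.subgroupOf M).map π with hW
  have hinj : ∀ a b : ↥M, (a : G) ∈ F.E → (b : G) ∈ F.E → π a = π b → a = b := by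
    intro a b ha hb e
    obtain ⟨k, hk, e'⟩ := hπ a b e
    have hkE : k ∈ F.E := by
      rw [show k = (a : G)⁻¹ * b by rw [e', inv_mul_cancel_left]]; exact mul_mem (inv_mem ha) hb
    have := F.disj k hkE (zpowers_le.2 hx hk)
    exact Subtype.ext (by rw [e', this, mul_one])
  have hW4 : Nat.card ↥W = 4 := by
    rw [← F.cardE, ← Nat.card_congr (subgroupOfEquivOfLe hEM).toEquiv]
    refine (Nat.card_congr (Equiv.ofBijective (fun a : ↥(F.E.subgroupOf M) => (⟨π a, ⟨a, a.2, rfl⟩⟩ : ↥W))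
      ⟨fun a b e => Subtype.ext (hinj _ _ (mem_subgroupOf.1 a.2) (mem_subgroupOf.1 b.2)
        (congrArg Subtype.val e)), ?_⟩)).symm
    rintro ⟨_, a, ha, rfl⟩
    exact ⟨⟨a, ha⟩, rfl⟩
  have hxodd : Odd (orderOf x) := hx5 ▸ by decide
  have hCent : HJKlein.Cent W := by
    refine ⟨hW4, ?_, ?_⟩
    · rintro _ ⟨a, ha, rfl⟩
      rw [← map_mul, show a * a = 1 from Subtype.ext (F.sqE _ (mem_subgroupOf.1 ha)), map_one]
    · rintro _ ⟨a, ha, rfl⟩ hne c hc
      obtain ⟨c, rfl⟩ := QuotientGroup.mk'_surjective _ c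
      have hae : (a : G) ∈ F.E := mem_subgroupOf.1 ha
      have ha1 : (a : G) ≠ 1 := fun e => hne (by rw [show a = 1 from Subtype.ext e, map_one])
      have e : π a = π (c * a * c⁻¹) := by
        rw [map_mul, map_mul, map_inv, eq_mul_inv_iff_mul_eq]; exact hc.symm
      obtain ⟨k, hk, e'⟩ := hπ _ _ e
      have e'' : (c : G) * a * (c : G)⁻¹ = a * k := e'
      have hk1 : k = 1 := by
        refine two_power_one (n := 1) (F.sqE _ hae) (hcomm k hk _ a.2) ?_ (hxodd.of_dvd_nat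
          (orderOf_dvd_of_mem_zpowers hk))
        rw [← e'', pow_one, pow_two,
          show (c : G) * a * (c : G)⁻¹ * ((c : G) * a * (c : G)⁻¹) = (c : G) * (a * a) * (c : G)⁻¹ by group,
          F.sqE _ hae, mul_one, mul_inv_cancel]
      rw [hk1, mul_one, mul_inv_eq_iff_eq_mul] at e''
      obtain ⟨e₁, he₁, k₁, hk₁, hc'⟩ := F.cent_e hx (Or.inl hx5) hae ha1 e''
        (mem_centralizer_singleton_iff.1 c.2)
      refine ⟨⟨e₁, hEM he₁⟩, mem_subgroupOf.2 he₁, ?_⟩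
      refine QuotientGroup.eq.2 (mem_subgroupOf.2 ?_)
      show e₁⁻¹ * (c : G) ∈ zpowers x
      rw [hc', inv_mul_cancel_left]; exact hk₁
  have hbig : 4 < Nat.card (↥M ⧸ (zpowers x).subgroupOf M) := by
    have hne : π ⟨F.d, hdM⟩ ∉ W := by
      rintro ⟨a, ha, e⟩
      obtain ⟨k, hk, e'⟩ := hπ _ _ e
      have e'' : F.d = (a : G) * k := e'
      refine F.d_move ?_
      rw [mul_inv_eq_iff_eq_mul, e'', mul_assoc, ← hcomm k hk _ (hEM F.t_mem), ← mul_assoc,
        F.E_comm (mem_subgroupOf.1 ha) F.t_mem, mul_assoc]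
    have h1 := W.card_le_card_group
    rcases h1.lt_or_eq with h | h
    · exact hW4 ▸ h
    · exact absurd (eq_top_of_card_eq W h ▸ mem_top _) hne
  -- the quotient has order sixty
  have hM5 : Nat.card ↥M = 5 * Nat.card (↥M ⧸ (zpowers x).subgroupOf M) := by
    rw [card_eq_card_quotient_mul_card_subgroup ((zpowers x).subgroupOf M),
      Nat.card_congr (subgroupOfEquivOfLe hYle).toEquiv, Nat.card_zpowers, hx5, mul_comm]
  have h60 : Nat.card (↥M ⧸ (zpowers x).subgroupOf M) = 60 := by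
    rcases hCent.cases hbig with ⟨h, -⟩ | h
    · have h2 := card_dvd_of_le hPM
      rw [h25, hM5, h] at h2
      norm_num at h2
    · exact h
  -- the image of P
  set PJ := ((P : Subgroup G).subgroupOf M).map π with hPJ
  have hPJ5 : Nat.card ↥PJ ∣ 5 := by
    have h1 := ((P : Subgroup G).subgroupOf M).card_map_dvd π
    rw [Nat.card_congr (subgroupOfEquivOfLe hPM).toEquiv, h25] at h1
    have h2 := PJ.card_subgroup_dvd_card
    rw [h60] at h2
    exact (Nat.dvd_gcd h1 h2).trans (by norm_num)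
  have mem_PJ : ∀ (a : ↥M), (a : G) ∈ (P : Subgroup G) → π a ∈ PJ := fun a ha =>
    ⟨a, mem_subgroupOf.2 ha, rfl⟩
  obtain ⟨w', hw'P, hw'x⟩ : ∃ a ∈ (P : Subgroup G), a ∉ zpowers x := by
    by_contra hc
    push Not at hc
    have := card_le_of_le (show (P : Subgroup G) ≤ zpowers x from fun a ha => hc a ha)
    rw [h25, Nat.card_zpowers, hx5] at this
    norm_num at this
  have gen : ∀ (a : ↥M), (a : G) ∈ (P : Subgroup G) → (a : G) ∉ zpowers x →
      orderOf (π a) = 5 ∧ zpowers (π a) = PJ := by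
    intro a ha hax
    have h1 : orderOf (π a) ∣ 5 := (PJ.orderOf_dvd_natCard (mem_PJ a ha)).trans hPJ5
    have h5 : orderOf (π a) = 5 := ((Nat.dvd_prime (by norm_num)).1 h1).resolve_left fun e =>
      hax (hπ1 a (orderOf_eq_one_iff.1 e))
    refine ⟨h5, eq_of_le_of_card_ge (zpowers_le.2 (mem_PJ a ha)) ?_⟩
    rw [Nat.card_zpowers, h5]
    exact Nat.le_of_dvd (by norm_num) hPJ5
  have hpre : ∀ a : ↥M, π a ∈ PJ → (a : G) ∈ (P : Subgroup G) := by
    rintro a ⟨b, hb, e⟩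
    obtain ⟨k, hk, e'⟩ := hπ _ _ e
    rw [e']
    exact mul_mem (mem_subgroupOf.1 hb) (zpowers_le.2 hxP hk)
  obtain ⟨hb5, hbPJ⟩ := gen ⟨w', hPM hw'P⟩ hw'P hw'x
  set b := π ⟨w', hPM hw'P⟩ with hbdef
  obtain ⟨-, ⟨u, hu, hub⟩, -⟩ := hCent.five h60 hb5
  obtain ⟨r, hr⟩ := QuotientGroup.mk'_surjective _ u
  change π r = u at hr
  have hrx : (r : G) * x = x * r := mem_centralizer_singleton_iff.1 r.2
  -- `r` normalises P
  have hrPJ : ∀ c ∈ PJ, u * c * u⁻¹ ∈ PJ := by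
    intro c hc
    rw [← hbPJ] at hc ⊢
    obtain ⟨i, rfl⟩ := mem_zpowers_iff.1 hc
    rw [show u * b ^ i * u⁻¹ = (u * b * u⁻¹) ^ i from map_zpow (MulAut.conj u) b i, hub]
    exact zpow_mem (inv_mem (mem_zpowers b)) i
  have hrP : ∀ a ∈ (P : Subgroup G), (r : G) * a * (r : G)⁻¹ ∈ (P : Subgroup G) := by
    intro a ha
    refine hpre (r * ⟨a, hPM ha⟩ * r⁻¹) ?_
    rw [map_mul, map_mul, map_inv, hr]
    exact hrPJ _ (mem_PJ _ ha)
  have hrN : (r : G) ∈ normalizer ((P : Subgroup G) : Set G) := by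
    have e : (P : Subgroup G).map (MulAut.conj (r : G)).toMonoidHom = P := by
      refine eq_of_le_of_card_ge ?_ (by rw [card_map_of_injective (MulEquiv.injective _)])
      rintro _ ⟨a, ha, rfl⟩
      exact hrP a ha
    refine mem_normalizer_iff.2 fun a => ⟨fun ha => hrP a ha, fun ha => ?_⟩
    replace ha : (r : G) * a * (r : G)⁻¹ ∈ (P : Subgroup G) := ha
    rw [← e] at ha
    obtain ⟨a', ha', e'⟩ := ha
    change (r : G) * a' * (r : G)⁻¹ = (r : G) * a * (r : G)⁻¹ at e'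
    exact (mul_left_cancel (mul_right_cancel e')) ▸ ha'
  -- the inverted complement
  have hr2 : (r : G) * r ∈ (P : Subgroup G) := zpowers_le.2 hxP (hπ1 (r * r) (by
    rw [map_mul, hr, invol_mul_self hu]))
  set v := (r : G) * w' * (r : G)⁻¹ with hv
  have hvP : v ∈ (P : Subgroup G) := hrP w' hw'P
  set w := w' * v⁻¹ with hw
  have hwP : w ∈ (P : Subgroup G) := mul_mem hw'P (inv_mem hvP)
  have hrv : (r : G) * v * (r : G)⁻¹ = w' := by
    rw [hv, show (r : G) * ((r : G) * w' * (r : G)⁻¹) * (r : G)⁻¹ =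
      (r : G) * r * w' * ((r : G) * r)⁻¹ by group, hPcomm _ hr2 _ hw'P, mul_inv_cancel_right]
  have hrw : (r : G) * w * (r : G)⁻¹ = w⁻¹ := by
    rw [show (r : G) * w * (r : G)⁻¹ = (r * w' * (r : G)⁻¹) * (r * v * (r : G)⁻¹)⁻¹ by rw [hw]; group,
      hrv, ← hv, hw, mul_inv_rev, inv_inv]
  have hπw : π ⟨w, hPM hwP⟩ = b * b := by
    have e : (⟨w, hPM hwP⟩ : ↥M) = ⟨w', hPM hw'P⟩ * (r * ⟨w', hPM hw'P⟩ * r⁻¹)⁻¹ := Subtype.ext rfl
    rw [e, map_mul, map_inv, map_mul, map_mul, map_inv, hr, ← hbdef, hub, inv_inv]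
  have hwx : w ∉ zpowers x := fun hc => by
    have h1 : π ⟨w, hPM hwP⟩ = 1 := (QuotientGroup.eq_one_iff _).2 (mem_subgroupOf.2 hc)
    rw [hπw, ← pow_two] at h1
    have := orderOf_dvd_of_pow_eq_one h1
    rw [hb5] at this
    norm_num at this
  obtain ⟨hc5, hcPJ⟩ := gen ⟨w, hPM hwP⟩ hwP hwx
  set c := π ⟨w, hPM hwP⟩ with hcdef
  have hw5 : w ^ 5 = 1 := by
    have h1 : w ^ 5 ∈ zpowers x := hπ1 (⟨w, hPM hwP⟩ ^ 5) (by rw [map_pow, ← hc5, pow_orderOf_eq_one])
    have h2 : (r : G) * w ^ 5 * (r : G)⁻¹ = w ^ 5 := by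
      rw [hcomm _ h1 _ r.2, mul_inv_cancel_right]
    rw [← conj_pow, hrw, inv_pow] at h2
    have h3 : w ^ 10 = 1 := by
      rw [show 10 = 5 + 5 from rfl, pow_add]
      nth_rewrite 1 [← h2]
      rw [inv_mul_cancel]
    have h4 : w ^ 25 = 1 := by
      have := congrArg Subtype.val (pow_card_eq_one' (x := (⟨w, hwP⟩ : ↥(P : Subgroup G))))
      rwa [h25] at this
    refine orderOf_dvd_iff_pow_eq_one.1 ?_
    exact (Nat.dvd_gcd (orderOf_dvd_of_pow_eq_one h3) (orderOf_dvd_of_pow_eq_one h4)).trans (by norm_num)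
  obtain ⟨hcC, -, hcN⟩ := hCent.five h60 hc5
  have hcent : ∀ g : ↥M, π g * c = c * π g → (g : G) ∈ (P : Subgroup G) := by
    intro g hg
    refine hpre g ?_
    have h1 : zpowers c = centralizer ({c} : Set _) := eq_of_le_of_card_ge
      (zpowers_le.2 (mem_centralizer_singleton_iff.2 rfl)) (by rw [hcC, Nat.card_zpowers, hc5])
    rw [← hcPJ, h1]
    exact mem_centralizer_singleton_iff.2 hg
  refine ⟨w, (r : G), ⟨h25, hPcomm, hxP, hwP, by rw [← hx5, pow_orderOf_eq_one], hw5,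
    fun e => by rw [e, orderOf_one] at hx5; norm_num at hx5, hwx, hrN,
    by rw [hrx, mul_inv_cancel_right], hrw, fun g hgx hgw => ?_, fun g hgN hgx => ?_, ?_⟩⟩
  · refine hcent ⟨g, mem_centralizer_singleton_iff.2 hgx⟩ ?_
    rw [hcdef, ← map_mul, ← map_mul]
    exact congrArg π (Subtype.ext hgw)
  · set g' : ↥M := ⟨g, mem_centralizer_singleton_iff.2 hgx⟩ with hg'
    have h1 : π g' * c * (π g')⁻¹ ∈ zpowers c := by
      rw [hcPJ, hcdef, ← map_inv, ← map_mul, ← map_mul]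
      exact mem_PJ _ ((mem_normalizer_iff.1 hgN w).1 hwP)
    rcases hcN _ h1 with e | e
    · exact Or.inl (hcent g' (mul_inv_eq_iff_eq_mul.1 e))
    · refine Or.inr (hcent (r⁻¹ * g') (mul_inv_eq_iff_eq_mul.1 ?_))
      have h2 : u * c * u⁻¹ = c⁻¹ := by
        rw [← hr, hcdef, ← map_inv π r, ← map_mul, ← map_mul, ← map_inv]
        exact congrArg π (Subtype.ext hrw)
      rw [map_mul, map_inv, hr, invol_inv hu,
        show u * π g' * c * (u * π g')⁻¹ = u * (π g' * c * (π g')⁻¹) * u⁻¹ by group, e,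
        show u * c⁻¹ * u⁻¹ = (u * c * u⁻¹)⁻¹ by group, h2, inv_inv]
  · obtain ⟨n, hn⟩ := L_full F hx hx5
    obtain ⟨m, hm, hm'⟩ := Sylow.conj_eq_normalizer_conj_of_mem P x n⁻¹ hxP (by
      rw [inv_inv, hn]; exact mul_mem hxP hxP)
    exact ⟨m⁻¹, inv_mem hm, by rw [inv_inv, ← hm', inv_inv, hn]⟩

end CfsgLib.InvChar.SuzFive
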