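import Cfsg.Agent.Lib.InvChar.SuzFive.Frame
import Mathlib.GroupTheory.NoncommCoprod

/-!
# The Sylow five-subgroup of a group of Suzuki type
-/

set_option autoImplicit false

namespace CfsgLib.InvChar.SuzFive

open Subgroup

universe u

variable {G : Type u} [Group G]

theorem Data.map {P : Subgroup G} {x w r : G} (D : Data P x w r) (e : G ≃* G) :
    Data (P.map e.toMonoidHom) (e x) (e w) (e r) := by
  have hN : ∀ n, n ∈ normalizer ((P.map e.toMonoidHom : Subgroup G) : Set G) →
      ∃ n' ∈ normalizer (P : Set G), e n' = n := by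
    intro n hn
    rw [← map_equiv_normalizer_eq] at hn
    exact hn
  have hN' : ∀ n ∈ normalizer (P : Set G), e n ∈ normalizer ((P.map e.toMonoidHom : Subgroup G) : Set G) := by
    intro n hn
    rw [← map_equiv_normalizer_eq]
    exact ⟨n, hn, rfl⟩
  exact
    { card := by rw [card_map_of_injective (f := e.toMonoidHom) e.injective]; exact D.card
      comm := by
        rintro _ ⟨a, ha, rfl⟩ _ ⟨b, hb, rfl⟩
        rw [← map_mul, ← map_mul, D.comm a ha b hb]
      xP := ⟨x, D.xP, rfl⟩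
      wP := ⟨w, D.wP, rfl⟩
      hx := by rw [← map_pow, D.hx, map_one]
      hw := by rw [← map_pow, D.hw, map_one]
      hx1 := fun h => D.hx1 (e.injective (h.trans (map_one e).symm))
      hwx := fun h => by
        obtain ⟨i, hi⟩ := mem_zpowers_iff.1 h
        exact D.hwx (mem_zpowers_iff.2 ⟨i, e.injective (by rw [map_zpow, hi])⟩)
      rN := hN' r D.rN
      rx := by rw [← map_inv, ← map_mul, ← map_mul, D.rx]
      rw' := by rw [← map_inv, ← map_mul, ← map_mul, D.rw', map_inv]
      cent := fun g h1 h2 => by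
        obtain ⟨g, rfl⟩ := e.surjective g
        rw [← map_mul, ← map_mul] at h1 h2
        exact ⟨g, D.cent g (e.injective h1) (e.injective h2), rfl⟩
      stab := fun g hg h1 => by
        obtain ⟨g, hg', rfl⟩ := hN g hg
        rw [← map_mul, ← map_mul] at h1
        rcases D.stab g hg' (e.injective h1) with h | h
        · exact Or.inl ⟨g, h, rfl⟩
        · exact Or.inr ⟨r⁻¹ * g, h, by simp⟩
      full := by
        obtain ⟨h, hh, hhx⟩ := D.full
        exact ⟨e h, hN' h hh, by rw [← map_inv, ← map_mul, ← map_mul, hhx, map_mul]⟩ }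

theorem map_conj_zpowers (g a : G) :
    (zpowers a).map (MulAut.conj g).toMonoidHom = zpowers (g * a * g⁻¹) := by
  rw [MonoidHom.map_zpowers]; rfl

namespace Frame

variable [Finite G] {P : Subgroup G} {x w r : G} (F : Frame P x w r)
include F

theorem exists_rep (p : Multiplicative (ZMod 4) × Equiv.Perm (Fin 3)) :
    ∃ n ∈ normalizer (P : Set G), theta x w n = Tab p := by
  have D := F.toData
  obtain ⟨f, hf, htf⟩ := F.exists_f
  obtain ⟨j, hj, htj⟩ := F.exists_j
  have hpow : ∀ k : ℕ, theta x w (j ^ k) = sc ((2 : ZMod 5) ^ k) := by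
    intro k
    induction k with
    | zero => rw [pow_zero, pow_zero, D.theta_one]; rfl
    | succ k ih =>
      rw [pow_succ, D.theta_mul (pow_mem hj k) hj, ih, htj]
      simp [sc, mmul, app, pow_succ, mul_comm]
  obtain ⟨a, ha, hta⟩ : ∃ a ∈ normalizer (P : Set G), theta x w a = ![one5, F5, mmul F5 F5] (p.2 0) := by
    obtain h | h | h : p.2 0 = 0 ∨ p.2 0 = 1 ∨ p.2 0 = 2 := by
      generalize p.2 0 = i
      revert i; decide
    · exact ⟨1, one_mem _, by rw [D.theta_one, h]; rfl⟩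
    · exact ⟨f, hf, by rw [htf, h]; rfl⟩
    · exact ⟨f * f, mul_mem hf hf, by rw [D.theta_mul hf hf, htf, h]; rfl⟩
  obtain ⟨b, hb, htb⟩ : ∃ b ∈ normalizer (P : Set G),
      theta x w b = if p.2 1 = p.2 0 + 1 then one5 else R5 := by
    by_cases h : p.2 1 = p.2 0 + 1
    · exact ⟨1, one_mem _, by rw [if_pos h, D.theta_one]⟩
    · exact ⟨r, D.rN, by rw [if_neg h, D.theta_r]⟩
  refine ⟨j ^ (Multiplicative.toAdd p.1).val * (a * b), mul_mem (pow_mem hj _) (mul_mem ha hb), ?_⟩
  rw [D.theta_mul (pow_mem hj _) (mul_mem ha hb), D.theta_mul ha hb, hpow, hta, htb]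
  rfl

theorem equiv_K : Nonempty (K P ≃* Multiplicative (ZMod 4) × Equiv.Perm (Fin 3)) := by
  choose n hn htn using F.exists_rep
  have D := F.toData
  let g : Multiplicative (ZMod 4) × Equiv.Perm (Fin 3) → K P := fun p =>
    QuotientGroup.mk (⟨n p, hn p⟩ : ↥(normalizer (P : Set G)))
  have hg : ∀ p, thetaK P x w (g p) = Tab p := fun p => (D.thetaK_mk (hn p)).trans (htn p)
  let g' : Multiplicative (ZMod 4) × Equiv.Perm (Fin 3) →* K P := MonoidHom.mk' g fun p q =>
    D.thetaK_inj (by rw [D.thetaK_mul, hg, hg, hg, tab_mul])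
  have hbij : Function.Bijective g' := by
    refine (Nat.bijective_iff_injective_and_card g').2 ⟨fun p q e => tab_inj p q ?_, ?_⟩
    · rw [← hg p, ← hg q]; exact congrArg (thetaK P x w) e
    · rw [F.card_K, Nat.card_prod, Nat.card_perm, Nat.card_congr Multiplicative.toAdd, Nat.card_zmod]
      simp [Nat.factorial]
  exact ⟨(MulEquiv.ofBijective g' hbij).symm⟩

/-- Every normalising element has one of the 24 matrices. -/
theorem exists_tab {n : G} (hn : n ∈ normalizer (P : Set G)) : ∃ q, Tab q = theta x w n := by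
  have D := F.toData
  choose n' hn' htn' using F.exists_rep
  obtain ⟨q, hq⟩ := ((Nat.bijective_iff_injective_and_card (fun q =>
    (QuotientGroup.mk (⟨n' q, hn' q⟩ : ↥(normalizer (P : Set G))) : K P))).2
    ⟨fun a b h => tab_inj a b (by
      rw [← htn' a, ← htn' b, ← D.thetaK_mk (hn' a), ← D.thetaK_mk (hn' b)]
      exact congrArg _ h), by
      rw [F.card_K, Nat.card_prod, Nat.card_perm, Nat.card_congr Multiplicative.toAdd, Nat.card_zmod]
      simp [Nat.factorial]⟩).2 (QuotientGroup.mk (⟨n, hn⟩ : ↥(normalizer (P : Set G))))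
  exact ⟨q, by rw [← htn' q, ← D.thetaK_mk (hn' q), ← D.thetaK_mk hn]; exact congrArg _ hq⟩

theorem card_normalizer : Nat.card ↥(normalizer (P : Set G)) = 600 := by
  have h := card_eq_card_quotient_mul_card_subgroup (P.subgroupOf (normalizer (P : Set G)))
  rw [Nat.card_congr (subgroupOfEquivOfLe le_normalizer).toEquiv, F.toData.card] at h
  change _ = Nat.card (K P) * 25 at h
  rw [h, F.card_K]

end Frame

variable [Finite G]

/-- Two classes of subgroups of order five, and the normaliser of a Sylow subgroup. -/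
theorem five_of_frame (P : Sylow 5 G) {x w r : G} (F : Frame (P : Subgroup G) x w r) :
    (∃ A B : Subgroup G, Nat.card A = 5 ∧ Nat.card B = 5 ∧
      (∀ g : G, A.map (MulAut.conj g).toMonoidHom ≠ B) ∧
      ∀ C : Subgroup G, Nat.card C = 5 → ∃ g : G, C.map (MulAut.conj g).toMonoidHom = A ∨
        C.map (MulAut.conj g).toMonoidHom = B) := by
  haveI : Fact (Nat.Prime 5) := ⟨by norm_num⟩
  have D := F.toData
  have hw1 : w ≠ 1 := fun h => D.hwx (h ▸ one_mem _)
  haveI : IsMulCommutative ↥(P : Subgroup G) :=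
    IsPGroup.isMulCommutative_of_card_eq_prime_sq (p := 5) (D.card.trans (by norm_num))
  refine ⟨zpowers x, zpowers w, by rw [Nat.card_zpowers, D.orderOf_x],
    by rw [Nat.card_zpowers, orderOf_eq_prime D.hw hw1], fun g hg => ?_, fun C hC => ?_⟩
  · rw [map_conj_zpowers] at hg
    obtain ⟨i, hi⟩ := mem_zpowers_iff.1 (hg ▸ mem_zpowers (g * x * g⁻¹) : g * x * g⁻¹ ∈ zpowers w)
    have hgx : g * x * g⁻¹ ∈ (P : Subgroup G) := hi ▸ zpow_mem D.wP i
    obtain ⟨n, hn, hn'⟩ := Sylow.conj_eq_normalizer_conj_of_mem P x g⁻¹ D.xP (by rwa [inv_inv])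
    rw [inv_inv] at hn'
    obtain ⟨v, hv⟩ : ∃ v : ZMod 5, w ^ i = pt x w (0, v) := by
      obtain ⟨k, hk⟩ := (Submonoid.mem_powers_iff _ _).1
        (mem_powers_iff_mem_zpowers.2 (zpow_mem (mem_zpowers w) i))
      refine ⟨(k : ZMod 5), ?_⟩
      rw [← hk, pt, ZMod.val_natCast]
      simp only [ZMod.val_zero, pow_zero, one_mul]
      rw [← pow_mod_orderOf, orderOf_eq_prime D.hw hw1]
    have ht : (theta x w n⁻¹).1 = (0, v) := by
      show co x w (n⁻¹ * x * n⁻¹⁻¹) = _
      rw [inv_inv, ← hn', ← hi, hv, D.co_pt]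
    obtain ⟨q, hq⟩ := F.exists_tab (inv_mem hn)
    have h0 := tab_first q
    rw [hq, ht] at h0
    exact h0 rfl
  · obtain ⟨c, hc⟩ := exists_prime_orderOf_dvd_card' (G := ↥C) 5 (by rw [hC])
    rw [← orderOf_coe] at hc
    have hCc : C = zpowers (c : G) :=
      (eq_of_le_of_card_ge (zpowers_le.2 c.2) (by rw [hC, Nat.card_zpowers, hc])).symm
    obtain ⟨g, hg⟩ := Invol.exists_conj_mem_sylow P
      (IsPGroup.of_card (n := 1) (hC.trans (pow_one 5).symm))
    obtain ⟨v, hv⟩ := D.pt_surj (hg _ c.2)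
    have hv0 : v ≠ 0 := by
      rintro rfl
      rw [D.pt_zero, eq_comm, conj_eq_one_iff] at hv
      rw [hv, orderOf_one] at hc
      norm_num at hc
    obtain ⟨p, hp⟩ := tab_cover v hv0
    obtain ⟨n, hn, htn⟩ := F.exists_rep p
    rcases hp with hp | hp
    · refine ⟨n⁻¹ * g, Or.inl ?_⟩
      have h1 : n * x * n⁻¹ = g * c * g⁻¹ := by rw [← D.pt_theta1 hn, htn, hp, hv]
      rw [hCc, map_conj_zpowers,
        show n⁻¹ * g * c * (n⁻¹ * g)⁻¹ = n⁻¹ * (g * (c : G) * g⁻¹) * n by group, ← h1]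
      group
    · refine ⟨n⁻¹ * g, Or.inr ?_⟩
      have h1 : n * w * n⁻¹ = g * c * g⁻¹ := by rw [← D.pt_theta2 hn, htn, hp, hv]
      rw [hCc, map_conj_zpowers,
        show n⁻¹ * g * c * (n⁻¹ * g)⁻¹ = n⁻¹ * (g * (c : G) * g⁻¹) * n by group, ← h1]
      group

theorem five_of_tframe {z : G} (T : SuzT.TFrame z) (hG : Nat.card G = 448345497600) (P : Sylow 5 G) :
    (∃ A B : Subgroup G, Nat.card A = 5 ∧ Nat.card B = 5 ∧
      (∀ g : G, A.map (MulAut.conj g).toMonoidHom ≠ B) ∧
      ∀ C : Subgroup G, Nat.card C = 5 → ∃ g : G, C.map (MulAut.conj g).toMonoidHom = A ∨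
        C.map (MulAut.conj g).toMonoidHom = B) ∧
    Nat.card (P : Subgroup G) = 25 ∧
    Nat.card ↥(normalizer ((P : Subgroup G) : Set G)) = 600 ∧
    Nonempty (↥(normalizer ((P : Subgroup G) : Set G)) ⧸
      (P : Subgroup G).subgroupOf (normalizer ((P : Subgroup G) : Set G)) ≃*
        Multiplicative (ZMod 4) × Equiv.Perm (Fin 3)) := by
  haveI : Fact (Nat.Prime 5) := ⟨by norm_num⟩
  have h25 : ∀ S : Sylow 5 G, Nat.card (S : Subgroup G) = 25 := by
    intro S
    rw [S.card_eq_multiplicity, hG, show Nat.factorization 448345497600 5 = 2 by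
      rw [show (448345497600 : ℕ) = 5 ^ 2 * 17933819904 by norm_num,
        Nat.factorization_mul (by norm_num) (by norm_num), Finsupp.add_apply, Nat.factorization_pow,
        Finsupp.smul_apply, Nat.Prime.factorization_self (by norm_num),
        Nat.factorization_eq_zero_of_not_dvd (by norm_num)]
      rfl]
    norm_num
  obtain ⟨x, hx, hx5⟩ := exists_five T
  obtain ⟨S, hS⟩ := (IsPGroup.of_card (p := 5) (n := 1) (by rw [Nat.card_zpowers, hx5]; norm_num) :
    IsPGroup 5 ↥(zpowers x)).exists_le_sylow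
  obtain ⟨w, r, D⟩ := exists_data T S (h25 S) hx hx5 (hS (mem_zpowers x))
  obtain ⟨g, hg⟩ := MulAction.exists_smul_eq G S P
  have hP : (P : Subgroup G) = (S : Subgroup G).map (MulAut.conj g).toMonoidHom := by
    rw [← hg, Sylow.coe_subgroup_smul]; rfl
  have D' := D.map (MulAut.conj g)
  rw [← hP] at D'
  obtain ⟨w', F⟩ := exists_frame P hG D'
  exact ⟨five_of_frame P F, h25 P, F.card_normalizer, F.equiv_K⟩

end CfsgLib.InvChar.SuzFive
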