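import Cfsg.Agent.Lib.InvChar.SuzFive.Norm

/-!
# The frame of the normaliser of a Sylow five-subgroup
-/

set_option autoImplicit false

namespace CfsgLib.InvChar.SuzFive

open Subgroup

universe u

variable {G : Type u} [Group G] [Finite G]

/-- The normaliser of `P` in its final coordinates. -/
structure Frame (P : Subgroup G) (x w r : G) : Prop extends Data P x w r where
  card_K : Nat.card (K P) = 24
  exists_f : ∃ f ∈ normalizer (P : Set G), theta x w f = F5
  exists_j : ∃ j ∈ normalizer (P : Set G), theta x w j = sc 2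

theorem exists_frame (P : Sylow 5 G) (hG : Nat.card G = 448345497600) {x w r : G}
    (D : Data (P : Subgroup G) x w r) : ∃ w', Frame (P : Subgroup G) x w' r := by
  classical
  haveI : Fact (Nat.Prime 5) := ⟨by norm_num⟩
  haveI : Fact (Nat.Prime 3) := ⟨by norm_num⟩
  obtain ⟨h, hh, d, S, hd, hth, hS, hSrow⟩ := D.exists_eight
  -- the order
  have h24 : Nat.card (K (P : Subgroup G)) = 24 := by
    have h8 : 8 ∣ Nat.card (K (P : Subgroup G)) := hS ▸ S.card_subgroup_dvd_card
    have h50 := D.card_le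
    have hpos : 0 < Nat.card (K (P : Subgroup G)) := Nat.card_pos
    have h1 := card_eq_card_quotient_mul_card_subgroup
      ((P : Subgroup G).subgroupOf (normalizer ((P : Subgroup G) : Set G)))
    rw [Nat.card_congr (subgroupOfEquivOfLe le_normalizer).toEquiv, D.card] at h1
    have h2 := (normalizer ((P : Subgroup G) : Set G)).card_mul_index
    have h3 : Nat.card (Sylow 5 G) = (normalizer ((P : Subgroup G) : Set G)).index := P.card_eq_index_normalizer
    have h4 := card_sylow_modEq_one 5 G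
    rw [h1, ← h3, hG] at h2
    unfold Nat.ModEq at h4
    obtain ⟨m, hm⟩ := h8
    change Nat.card (K (P : Subgroup G)) * 25 * Nat.card (Sylow 5 G) = _ at h2
    rw [hm] at h2 h50 hpos ⊢
    have hm6 : m ≤ 6 := by omega
    interval_cases m <;> omega
  -- the class of order three
  obtain ⟨f, hf⟩ := exists_prime_orderOf_dvd_card' (G := K (P : Subgroup G)) 3 (by rw [h24]; norm_num)
  set tf := thetaK (P : Subgroup G) x w f with htf
  set R : K (P : Subgroup G) := QuotientGroup.mk (⟨r, D.rN⟩ : ↥(normalizer ((P : Subgroup G) : Set G))) with hR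
  set A : K (P : Subgroup G) := QuotientGroup.mk (⟨h, hh⟩ : ↥(normalizer ((P : Subgroup G) : Set G))) with hA
  have tR : thetaK (P : Subgroup G) x w R = R5 := (D.thetaK_mk D.rN).trans D.theta_r
  have tA : thetaK (P : Subgroup G) x w A = ((2, 0), (0, d)) := (D.thetaK_mk hh).trans hth
  have hf3 : mmul tf (mmul tf tf) = one5 := by
    rw [htf, ← D.thetaK_mul, ← D.thetaK_mul, ← D.thetaK_one]
    congr 1
    rw [← mul_assoc, ← pow_two, ← pow_succ]
    have := pow_orderOf_eq_one f
    rwa [hf] at this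
  have hf1 : tf.1 ≠ (1, 0) := by
    intro e
    rcases D.key 1 f (by rw [D.thetaK_one, ← htf, e]; rfl) with e' | e'
    · rw [e', orderOf_one] at hf; norm_num at hf
    · rw [one_mul] at e'
      have h2 : f ^ 2 = 1 := D.thetaK_inj (by
        rw [pow_two, e', D.thetaK_mul, tR, D.thetaK_one]; decide)
      have := orderOf_dvd_of_pow_eq_one h2
      rw [hf] at this
      norm_num at this
  have hf3c : Nat.card ↥(zpowers f) = 3 := by rw [Nat.card_zpowers, hf]
  have hcompl : IsComplement' (zpowers f) S := isComplement'_of_coprime (by rw [hf3c, hS, h24])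
    (by rw [hf3c, hS]; norm_num)
  have cover : ∀ k, InO tf (thetaK (P : Subgroup G) x w k).1 := by
    intro k
    obtain ⟨⟨⟨a, ha⟩, ⟨s, hs⟩⟩, hk, -⟩ := hcompl.existsUnique k
    change a * s = k at hk
    obtain ⟨i, hi3, rfl⟩ : ∃ i < 3, f ^ i = a := by
      obtain ⟨i, hi⟩ := (Submonoid.mem_powers_iff _ _).1 (mem_powers_iff_mem_zpowers.2 ha)
      exact ⟨i % 3, Nat.mod_lt _ (by norm_num), by rw [← hf, pow_mod_orderOf]; exact hi⟩
    refine ⟨(thetaK (P : Subgroup G) x w s).1.1, ?_⟩
    rw [← hk, D.thetaK_mul]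
    have h0 := hSrow s hs
    simp only [mmul, app, h0, zero_mul, add_zero]
    interval_cases i
    · left; rw [pow_zero, D.thetaK_one]; simp [one5]
    · right; left; rw [pow_one]
    · right; right; rw [pow_two, D.thetaK_mul]; simp [mmul, app, htf]
  obtain ⟨hd', ha11, ha22, hb, hβ⟩ := shape tf d hd hf3 hf1
    (by have := cover (R * f); rwa [D.thetaK_mul, tR] at this)
    (by
      have := cover (R * (f * f))
      rw [D.thetaK_mul, D.thetaK_mul, tR] at this
      exact this)
    (by have := cover (A * f); rwa [D.thetaK_mul, tA] at this)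
  -- the representatives
  obtain ⟨⟨n, hn⟩, rfl⟩ := QuotientGroup.mk_surjective f
  replace htf : tf = theta x w n := htf.trans (D.thetaK_mk hn)
  obtain ⟨j, hj, htj⟩ : ∃ j ∈ normalizer ((P : Subgroup G) : Set G), theta x w j = sc 2 := by
    rcases hd' with rfl | rfl
    · exact ⟨h, hh, hth⟩
    · exact ⟨h * r, mul_mem hh D.rN, by rw [D.theta_mul hh D.rN, hth, D.theta_r]; rfl⟩
  set b := tf.1.2 with hbdef
  have D' := D.rescale hb
  have hw' : w ^ b.val = pt x w (0, b) := by simp [pt]
  refine ⟨w ^ b.val, ⟨D', h24, ⟨n, hn, D'.theta_eq ?_ ?_⟩, ⟨j, hj, D'.theta_eq ?_ ?_⟩⟩⟩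
  · rw [← D.pt_theta1 hn, ← htf, D.pt_rescale]
    congr 1
    exact Prod.ext ha11 (by show tf.1.2 = b * (1 : ZMod 5); rw [mul_one])
  · rw [hw', D.conj_pt hn, ← htf, ← hw', D.pt_rescale]
    congr 1
    simp only [app]
    refine Prod.ext ?_ ?_
    · show 0 * tf.1.1 + b * tf.2.1 = 3
      rw [zero_mul, zero_add, hbdef, mul_comm]; exact hβ
    · show 0 * tf.1.2 + b * tf.2.2 = b * 2
      rw [zero_mul, zero_add, ha22]
  · rw [← D.pt_theta1 hj, htj, D.pt_rescale]
    simp [sc]
  · rw [hw', D.conj_pt hj, htj, ← hw', D.pt_rescale]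
    congr 1
    simp [app, sc]

end CfsgLib.InvChar.SuzFive
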