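import Cfsg.Agent.Lib.InvChar.SuzFive.Coord
import Mathlib.GroupTheory.Complement

/-!
# The normaliser of a Sylow five-subgroup
-/

set_option autoImplicit false

namespace CfsgLib.InvChar.SuzFive

open Subgroup

universe u

variable {G : Type u} [Group G]

/-- The normaliser modulo the subgroup. -/
abbrev K (P : Subgroup G) : Type u :=
  ↥(normalizer (P : Set G)) ⧸ P.subgroupOf (normalizer (P : Set G))

namespace Data

variable {P : Subgroup G} {x w r : G} (D : Data P x w r)
include D

theorem rescale {b : ZMod 5} (hb : b ≠ 0) : Data P x (w ^ b.val) r := by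
  haveI : Fact (Nat.Prime 5) := ⟨by norm_num⟩
  have back : (w ^ b.val) ^ (b⁻¹).val = w := by
    rw [← val_mul_pow D.hw, mul_inv_cancel₀ hb, val_one5, pow_one]
  exact
    { card := D.card
      comm := D.comm
      xP := D.xP
      wP := pow_mem D.wP _
      hx := D.hx
      hw := by rw [← pow_mul, mul_comm, pow_mul, D.hw, one_pow]
      hx1 := D.hx1
      hwx := fun h => D.hwx (back ▸ pow_mem h _)
      rN := D.rN
      rx := D.rx
      rw' := by rw [← conj_pow, D.rw', inv_pow]
      cent := fun g h1 h2 => D.cent g h1 (by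
        have := (show Commute g (w ^ b.val) from h2).pow_right (b⁻¹).val
        rwa [back] at this)
      stab := D.stab
      full := D.full }

theorem pt_rescale (b : ZMod 5) (v : V5) : pt x (w ^ b.val) v = pt x w (v.1, b * v.2) := by
  simp only [pt]
  rw [val_mul_pow D.hw]

/-- The matrix of a class. -/
theorem theta_out {n : G} (hn : n ∈ normalizer (P : Set G)) :
    theta x w (((QuotientGroup.mk (⟨n, hn⟩ : ↥(normalizer (P : Set G))) : K P).out : G)) = theta x w n := by
  obtain ⟨h, hh⟩ := QuotientGroup.mk_out_eq_mul (P.subgroupOf (normalizer (P : Set G))) ⟨n, hn⟩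
  rw [hh, Subgroup.coe_mul, D.theta_mul hn (h : ↥(normalizer (P : Set G))).2,
    D.theta_of_mem (mem_subgroupOf.1 h.2), mmul_one]

end Data

/-- The matrix of an element of the quotient. -/
noncomputable def thetaK (P : Subgroup G) (x w : G) (k : K P) : M2 := theta x w (k.out : G)

namespace Data

variable {P : Subgroup G} {x w r : G} (D : Data P x w r)
include D

theorem thetaK_mk {n : G} (hn : n ∈ normalizer (P : Set G)) :
    thetaK P x w (QuotientGroup.mk (⟨n, hn⟩ : ↥(normalizer (P : Set G)))) = theta x w n := D.theta_out hn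

theorem thetaK_mul (a b : K P) : thetaK P x w (a * b) = mmul (thetaK P x w a) (thetaK P x w b) := by
  obtain ⟨⟨n, hn⟩, rfl⟩ := QuotientGroup.mk_surjective a
  obtain ⟨⟨m, hm⟩, rfl⟩ := QuotientGroup.mk_surjective b
  rw [D.thetaK_mk hn, D.thetaK_mk hm, ← D.theta_mul hn hm]
  exact D.thetaK_mk (mul_mem hn hm)

theorem thetaK_one : thetaK P x w 1 = one5 := (D.thetaK_mk (one_mem _)).trans D.theta_one

theorem thetaK_inj : Function.Injective (thetaK P x w) := by
  intro a b e
  have h : thetaK P x w (a⁻¹ * b) = one5 := by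
    rw [D.thetaK_mul, ← e, ← D.thetaK_mul, inv_mul_cancel, D.thetaK_one]
  refine inv_mul_eq_one.1 ?_
  generalize a⁻¹ * b = c at h
  obtain ⟨⟨n, hn⟩, rfl⟩ := QuotientGroup.mk_surjective c
  rw [D.thetaK_mk hn] at h
  exact (QuotientGroup.eq_one_iff _).2 (mem_subgroupOf.2 (D.mem_of_theta hn h))

/-- Two classes moving `x` alike differ by the inverting one. -/
theorem key (a b : K P) (e : (thetaK P x w a).1 = (thetaK P x w b).1) :
    b = a ∨ b = a * QuotientGroup.mk (⟨r, D.rN⟩ : ↥(normalizer (P : Set G))) := by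
  obtain ⟨c, hc⟩ : ∃ c, c = a⁻¹ * b := ⟨_, rfl⟩
  have h : (thetaK P x w c).1 = (1, 0) := by
    rw [hc, D.thetaK_mul]
    show app _ (thetaK P x w b).1 = _
    rw [← e, show app (thetaK P x w a⁻¹) (thetaK P x w a).1 = (mmul (thetaK P x w a⁻¹) (thetaK P x w a)).1
      from rfl, ← D.thetaK_mul, inv_mul_cancel, D.thetaK_one]
    rfl
  obtain ⟨⟨n, hn⟩, rfl⟩ := QuotientGroup.mk_surjective c
  rw [D.thetaK_mk hn] at h
  have hnx : n * x = x * n := mul_inv_eq_iff_eq_mul.1 (by rw [← D.pt_theta1 hn, h, D.pt_e1])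
  have hb : b = a * QuotientGroup.mk (⟨n, hn⟩ : ↥(normalizer (P : Set G))) := by rw [hc, mul_inv_cancel_left]
  rcases D.stab n hn hnx with hP | hP
  · left
    rw [hb, (QuotientGroup.eq_one_iff _).2 (mem_subgroupOf.2 hP), mul_one]
  · right
    rw [hb]
    exact congrArg (a * ·) (QuotientGroup.eq.2 (mem_subgroupOf.2 hP)).symm

theorem card_le : Nat.card (K P) ≤ 50 := by
  classical
  let f : K P → V5 × Bool := fun k => ((thetaK P x w k).1,
    decide (k = Function.invFun (fun k => (thetaK P x w k).1) (thetaK P x w k).1))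
  have hf : Function.Injective f := by
    intro a b e
    have e1 : (thetaK P x w a).1 = (thetaK P x w b).1 := (congrArg Prod.fst e :)
    have e2 := congrArg Prod.snd e
    simp only [f, ← e1] at e2
    set k0 := Function.invFun (fun k => (thetaK P x w k).1) (thetaK P x w a).1 with hk0
    have h0 : (thetaK P x w k0).1 = (thetaK P x w a).1 :=
      Function.invFun_eq (f := fun k => (thetaK P x w k).1) ⟨a, rfl⟩
    by_cases ha : a = k0
    · exact ha.trans (of_decide_eq_true (e2 ▸ decide_eq_true ha)).symm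
    · have hb : b ≠ k0 := fun hb => ha (of_decide_eq_true (e2.trans (decide_eq_true hb)))
      rw [(D.key k0 a h0).resolve_left ha, (D.key k0 b (h0.trans e1)).resolve_left hb]
  exact (Nat.card_le_card_of_injective f hf).trans (by simp [Nat.card_eq_fintype_card])

variable [Finite G]

/-- The inverting class and a class squaring `x`: a diagonal subgroup of order eight. -/
theorem exists_eight : ∃ (h : G) (hh : h ∈ normalizer (P : Set G)) (d : ZMod 5) (S : Subgroup (K P)),
    d ≠ 0 ∧ theta x w h = ((2, 0), (0, d)) ∧ Nat.card ↥S = 8 ∧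
      ∀ s ∈ S, (thetaK P x w s).1.2 = 0 := by
  haveI : Fact (Nat.Prime 2) := ⟨Nat.prime_two⟩
  obtain ⟨h, hh, hhx⟩ := D.full
  obtain ⟨⟨c, d⟩, hcd⟩ : ∃ v, v = (theta x w h).2 := ⟨_, rfl⟩
  have h1 : (theta x w h).1 = (2, 0) := by
    show co x w (h * x * h⁻¹) = _
    rw [hhx, show x * x = pt x w (2, 0) by
      simp [pt, show (2 : ZMod 5).val = 2 from rfl, pow_two], D.co_pt]
  have hth : theta x w h = ((2, 0), (c, d)) := Prod.ext h1 hcd.symm
  have hd : d ≠ 0 := fun hd => by
    subst hd
    have e : pt x w (3 * c, 0) = pt x w (0, 1) := by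
      refine mul_left_cancel (a := h) (mul_right_cancel (b := h⁻¹) ?_)
      rw [D.conj_pt hh, D.conj_pt hh, hth]
      congr 1
      simp only [app]
      refine Prod.ext ?_ ?_
      · show 3 * c * 2 + 0 * c = 0 * 2 + 1 * c
        have : ∀ c : ZMod 5, 3 * c * 2 + 0 * c = 0 * 2 + 1 * c := by decide
        exact this c
      · show 3 * c * 0 + 0 * 0 = 0 * 0 + 1 * (0 : ZMod 5)
        simp
    exact absurd (congrArg Prod.snd (D.pt_inj e)) (show (0 : ZMod 5) ≠ 1 by decide)
  set A : K P := QuotientGroup.mk (⟨h, hh⟩ : ↥(normalizer (P : Set G))) with hA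
  set R : K P := QuotientGroup.mk (⟨r, D.rN⟩ : ↥(normalizer (P : Set G))) with hR
  have tA : thetaK P x w A = ((2, 0), (c, d)) := (D.thetaK_mk hh).trans hth
  have tR : thetaK P x w R = R5 := (D.thetaK_mk D.rN).trans D.theta_r
  have hc : c = 0 := by
    refine (diag_of_comm c d ?_).resolve_right hd
    have e : (thetaK P x w (R * A)).1 = (thetaK P x w (A * R)).1 := by
      rw [D.thetaK_mul, D.thetaK_mul, tA, tR]; simp [mmul, app, R5]
    rcases D.key _ _ e with e' | e'
    · left; rw [← tA, ← tR, ← D.thetaK_mul, ← D.thetaK_mul, e']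
    · right
      rw [← tA, ← tR, ← D.thetaK_mul, ← D.thetaK_mul, ← D.thetaK_mul, e']
  subst hc
  have comm : Commute A R := D.thetaK_inj (by
    rw [D.thetaK_mul, D.thetaK_mul, tA, tR]; simp [mmul, app, R5, mul_comm])
  have hA4 : orderOf A = 4 := by
    refine orderOf_eq_prime_pow (p := 2) (n := 1) ?_ ?_
    · intro e
      have := congrArg (fun k => (thetaK P x w k).1) e
      rw [pow_one, pow_two, D.thetaK_mul, tA, D.thetaK_one] at this
      simp [mmul, app, one5] at this
      revert this; decide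
    · rw [show 2 ^ (1 + 1) = 2 + 2 from rfl, pow_add, pow_two]
      exact D.thetaK_inj (by rw [D.thetaK_mul, D.thetaK_mul, tA, D.thetaK_one]; exact diag_four d hd)
  have hR2 : orderOf R = 2 := by
    refine orderOf_eq_prime ?_ fun e => ?_
    · rw [pow_two]
      exact D.thetaK_inj (by rw [D.thetaK_mul, tR, D.thetaK_one]; decide)
    · have := congrArg (thetaK P x w) e
      rw [tR, D.thetaK_one] at this
      revert this; decide
  let ψ : ↥(zpowers A) × ↥(zpowers R) →* K P :=
    MonoidHom.noncommCoprod (zpowers A).subtype (zpowers R).subtype fun a b => by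
      obtain ⟨i, hi⟩ := mem_zpowers_iff.1 a.2
      obtain ⟨j, hj⟩ := mem_zpowers_iff.1 b.2
      show Commute (a : K P) (b : K P)
      rw [← hi, ← hj]
      exact comm.zpow_zpow i j
  have hψ : ∀ a b, ψ (a, b) = (a : K P) * b := fun a b => MonoidHom.noncommCoprod_apply _ _ _ _
  have hcol : ∀ (a : K P), (thetaK P x w a).1.2 = 0 → ∀ b : K P, (thetaK P x w b).1.2 = 0 →
      (thetaK P x w (a * b)).1.2 = 0 := by
    intro a ha b hb
    rw [D.thetaK_mul]
    show (thetaK P x w b).1.1 * (thetaK P x w a).1.2 + (thetaK P x w b).1.2 * (thetaK P x w a).2.2 = 0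
    rw [ha, hb]; ring
  have hpow : ∀ (a : K P), (thetaK P x w a).1.2 = 0 → ∀ b ∈ zpowers a, (thetaK P x w b).1.2 = 0 := by
    intro a ha b hb
    obtain ⟨k, rfl⟩ := (Submonoid.mem_powers_iff _ _).1 (mem_powers_iff_mem_zpowers.2 hb)
    clear hb
    induction k with
    | zero => rw [pow_zero, D.thetaK_one]; rfl
    | succ k ih => rw [pow_succ]; exact hcol _ ih _ ha
  have hinj : Function.Injective ψ := by
    rw [injective_iff_map_eq_one]
    rintro ⟨a, b⟩ e
    rw [hψ] at e
    suffices hb : (b : K P) = 1 by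
      rw [hb, mul_one] at e
      exact Prod.ext (Subtype.ext e) (Subtype.ext hb)
    by_contra hb
    have hbR : (b : K P) = R := by
      obtain ⟨i, hi⟩ := mem_zpowers_iff.1 b.2
      rw [← hi] at hb ⊢
      rcases Int.even_or_odd i with ⟨l, rfl⟩ | ⟨l, rfl⟩
      · refine absurd ?_ hb
        rw [← two_mul, zpow_mul, zpow_two, CfsgLib.Invol.invol_mul_self hR2, one_zpow]
      · rw [zpow_add_one, zpow_mul, zpow_two, CfsgLib.Invol.invol_mul_self hR2, one_zpow, one_mul]
    have hRA : R ∈ zpowers A := by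
      rw [← hbR, eq_inv_of_mul_eq_one_right e]; exact inv_mem a.2
    obtain ⟨k, hk4, hk'⟩ : ∃ k < 4, A ^ k = R := by
      obtain ⟨k, hk⟩ := (Submonoid.mem_powers_iff _ _).1 (mem_powers_iff_mem_zpowers.2 hRA)
      exact ⟨k % 4, Nat.mod_lt _ (by norm_num), by rw [← hA4, pow_mod_orderOf]; exact hk⟩
    have := congrArg (fun k => (thetaK P x w k).1) hk'
    rw [tR] at this
    interval_cases k
    · rw [pow_zero] at hk'; rw [← hk', orderOf_one] at hR2; norm_num at hR2
    · rw [pow_one, tA] at this; revert this; simp [R5]; try decide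
    · rw [pow_two, D.thetaK_mul, tA] at this; revert this; simp [mmul, app, R5]; try decide
    · rw [pow_succ, pow_two, D.thetaK_mul, D.thetaK_mul, tA] at this; revert this
      simp [mmul, app, R5]; try decide
  refine ⟨h, hh, d, ψ.range, hd, hth, ?_, ?_⟩
  · rw [← Nat.card_congr (MonoidHom.ofInjective hinj).toEquiv, Nat.card_prod, Nat.card_zpowers,
      Nat.card_zpowers, hA4, hR2]
  · rintro _ ⟨⟨a, b⟩, rfl⟩
    rw [hψ]
    exact hcol _ (hpow A (by rw [tA]) _ a.2) _ (hpow R (by rw [tR]; rfl) _ b.2)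

end Data

end CfsgLib.InvChar.SuzFive
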